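import Mathlib

/-!
# Killing `L₃(8)` (S3938, helper627)
-/

set_option autoImplicit false

namespace Cfsg.Agent.H627.Spr

open Module

/-- a permutation of prime order of a small set is trivial -/
theorem perm_eq_one {X : Type*} [Finite X] {r : ℕ} (hr : r.Prime) (hX : Nat.card X < r) {σ : Equiv.Perm X}
    (hσ : σ ^ r = 1) : σ = 1 := by
  classical
  have := Fintype.ofFinite X
  rcases (Nat.dvd_prime hr).1 (orderOf_dvd_of_pow_eq_one hσ) with h | h
  · exact orderOf_eq_one_iff.1 h
  · exfalso
    have h1 : r ∣ Nat.card (Equiv.Perm X) := h ▸ orderOf_dvd_natCard σ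
    rw [Nat.card_perm] at h1
    have := (Nat.Prime.dvd_factorial hr).1 h1
    omega

section lin

variable {K : Type*} [Field K] [Fintype K] {V : Type*} [AddCommGroup V] [Module K V] [Finite V] [Nontrivial V]

omit [Finite V] in
/-- an eigenvector -/
theorem exists_eigen {b : V →ₗ[K] V} (hb : b ^ Fintype.card K = b) : ∃ (ζ : K) (v : V), v ≠ 0 ∧ b v = ζ • v := by
  classical
  by_contra hcon
  push Not at hcon
  have h1 : ∀ s : Finset K, Function.Injective (Polynomial.aeval b (∏ ζ ∈ s, (Polynomial.X - Polynomial.C ζ))) := by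
    intro s
    induction s using Finset.induction_on with
    | empty =>
      rw [Finset.prod_empty, map_one]
      exact fun x y hxy => hxy
    | insert ζ s hζ ih =>
      rw [Finset.prod_insert hζ, map_mul]
      refine Function.Injective.comp (g := (Polynomial.aeval b (Polynomial.X - Polynomial.C ζ) : V →ₗ[K] V)) ?_ ih
      rw [← LinearMap.ker_eq_bot, LinearMap.ker_eq_bot']
      intro v hv
      by_contra hv0
      apply hcon ζ v hv0
      have h2 : b v - ζ • v = 0 := by simpa using hv
      exact sub_eq_zero.1 h2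
  have h2 := h1 Finset.univ
  have h3 : (∏ ζ : K, (Polynomial.X - Polynomial.C ζ)) = (Polynomial.X ^ Fintype.card K - Polynomial.X : Polynomial K) := by
    have hm : (Polynomial.X ^ Fintype.card K - Polynomial.X : Polynomial K).Monic :=
      Polynomial.monic_X_pow_sub (by
        rw [Polynomial.degree_X]
        exact_mod_cast Fintype.one_lt_card)
    have h4 := Polynomial.prod_multiset_X_sub_C_of_monic_of_roots_card_eq hm (by
      rw [FiniteField.roots_X_pow_card_sub_X, FiniteField.X_pow_card_sub_X_natDegree_eq K Fintype.one_lt_card]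
      rfl)
    rw [FiniteField.roots_X_pow_card_sub_X] at h4
    exact h4
  rw [h3] at h2
  obtain ⟨v, hv⟩ := exists_ne (0 : V)
  apply hv
  apply h2
  rw [map_zero]
  simp [hb]

variable {r : ℕ}

/-- commuting linear maps -/
theorem lin_kill [FiniteDimensional K V] (h2 : (2 : K) = 0) (hr : r.Prime) (hV : finrank K V = 3)
    (hK : Fintype.card K ^ 2 < r) {a b : V →ₗ[K] V} (ha : a ^ r = 1) (hb : b ^ Fintype.card K = b) (hab : a * b = b * a) :
    a = 1 ∨ ∃ ζ : K, b = ζ • (1 : V →ₗ[K] V) := by
  classical
  obtain ⟨ζ, v, hv, hbv⟩ := exists_eigen hb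
  let E : Submodule K V := LinearMap.ker (b - ζ • (1 : V →ₗ[K] V))
  have hE : ∀ x, x ∈ E ↔ b x = ζ • x := by
    intro x
    rw [LinearMap.mem_ker, LinearMap.sub_apply, LinearMap.smul_apply, sub_eq_zero]
    rfl
  by_cases hE1 : E = ⊤
  · right
    refine ⟨ζ, LinearMap.ext fun x => ?_⟩
    have h1 : x ∈ E := by rw [hE1]; trivial
    exact (hE x).1 h1
  left
  have hr2 : r ≠ 2 := by
    have : 1 < Fintype.card K := Fintype.one_lt_card
    have : 2 ^ 2 ≤ Fintype.card K ^ 2 := Nat.pow_le_pow_left this 2
    omega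
  -- `a` is invertible
  have hai : Function.Injective a := by
    intro x y hxy
    have h1 : ∀ z, (a ^ (r - 1)) (a z) = z := by
      intro z
      have h3 : (a ^ (r - 1) * a) z = z := by
        rw [← pow_succ, Nat.sub_add_cancel hr.one_lt.le, ha]
        rfl
      exact h3
    rw [← h1 x, hxy, h1]
  have haE : ∀ x ∈ E, a x ∈ E := by
    intro x hx
    rw [hE] at hx ⊢
    have h1 := LinearMap.congr_fun hab x
    change a (b x) = b (a x) at h1
    rw [← h1, hx, map_smul]
  have hcardE : Nat.card E < r := by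
    rw [Module.natCard_eq_pow_finrank (K := K), Nat.card_eq_fintype_card]
    have h1 : finrank K E < 3 := by rw [← hV]; exact Submodule.finrank_lt hE1
    exact (Nat.pow_le_pow_right Fintype.card_pos (by omega)).trans_lt hK
  have hvE : v ∈ E := (hE v).2 hbv
  have hcardQ : Nat.card (V ⧸ E) < r := by
    rw [Module.natCard_eq_pow_finrank (K := K), Nat.card_eq_fintype_card]
    have h1 : finrank K (V ⧸ E) + finrank K E = 3 := by rw [← hV]; exact Submodule.finrank_quotient_add_finrank E
    have h3 : 0 < finrank K E := by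
      have : Nontrivial E := ⟨⟨⟨v, hvE⟩, 0, fun h => hv (congrArg Subtype.val h)⟩⟩
      exact finrank_pos
    exact (Nat.pow_le_pow_right Fintype.card_pos (by omega)).trans_lt hK
  -- `a` is trivial on `E`
  have h3 : ∀ x ∈ E, a x = x := by
    let f : E → E := fun x => ⟨a x, haE x x.2⟩
    have hf : Function.Injective f := fun x y hxy => Subtype.ext (hai (congrArg Subtype.val hxy))
    have hfb : Function.Bijective f := Finite.injective_iff_bijective.1 hf
    let σ : Equiv.Perm E := Equiv.ofBijective f hfb
    have hσ : ∀ (k : ℕ) (x : E), (((σ ^ k) x : E) : V) = (a ^ k) x := by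
      intro k
      induction k with
      | zero => intro x; rfl
      | succ k ih =>
        intro x
        rw [pow_succ', pow_succ']
        change a (((σ ^ k) x : E) : V) = a ((a ^ k) x)
        rw [ih]
    have h4 : σ ^ r = 1 := by
      ext x
      rw [hσ, ha]
      rfl
    have h5 := perm_eq_one hr hcardE h4
    intro x hx
    have h6 := congrArg (fun τ : Equiv.Perm E => ((τ ⟨x, hx⟩ : E) : V)) h5
    exact h6
  -- `a` is trivial on `V / E`
  have h4 : ∀ x, a x - x ∈ E := by
    let f : (V ⧸ E) →ₗ[K] (V ⧸ E) := E.mapQ E a (fun x hx => haE x hx)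
    have hfk : ∀ (k : ℕ) (x : V), (f ^ k) (Submodule.Quotient.mk x) = Submodule.Quotient.mk ((a ^ k) x) := by
      intro k
      induction k with
      | zero => intro x; rfl
      | succ k ih =>
        intro x
        rw [pow_succ', pow_succ']
        change f ((f ^ k) _) = Submodule.Quotient.mk (a ((a ^ k) x))
        rw [ih]
        rfl
    have hfr : f ^ r = 1 := by
      apply LinearMap.ext
      intro x
      obtain ⟨x, rfl⟩ := Submodule.Quotient.mk_surjective E x
      rw [hfk, ha]
      rfl
    have hf : Function.Injective f := by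
      intro x y hxy
      have h1 : ∀ z, (f ^ (r - 1)) (f z) = z := by
        intro z
        have h3 : (f ^ (r - 1) * f) z = z := by
          rw [← pow_succ, Nat.sub_add_cancel hr.one_lt.le, hfr]
          rfl
        exact h3
      rw [← h1 x, hxy, h1]
    have hfin : Finite (V ⧸ E) := Finite.of_surjective _ (Submodule.Quotient.mk_surjective E)
    have hfb : Function.Bijective f := Finite.injective_iff_bijective.1 hf
    let σ : Equiv.Perm (V ⧸ E) := Equiv.ofBijective f hfb
    have hσ : ∀ (k : ℕ) (x : V ⧸ E), (σ ^ k) x = (f ^ k) x := by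
      intro k
      induction k with
      | zero => intro x; rfl
      | succ k ih =>
        intro x
        rw [pow_succ', pow_succ']
        change f ((σ ^ k) x) = f ((f ^ k) x)
        rw [ih]
    have h4 : σ ^ r = 1 := by
      ext x
      rw [hσ, hfr]
      rfl
    have h5 := perm_eq_one hr hcardQ h4
    intro x
    have h6 : f (Submodule.Quotient.mk x) = Submodule.Quotient.mk x :=
      congrArg (fun τ : Equiv.Perm (V ⧸ E) => τ (Submodule.Quotient.mk x)) h5
    exact (Submodule.Quotient.eq E).1 h6
  -- `a ^ 2 = 1`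
  have h5 : a ^ 2 = 1 := by
    apply LinearMap.ext
    intro x
    have h6 := h3 _ (h4 x)
    rw [map_sub] at h6
    have h7 : (a ^ 2) x = a (a x) := by rw [pow_two]; rfl
    rw [h7]
    have h8 : a (a x) = a x - x + a x := by rw [← h6, sub_add_cancel]
    have h9 : a x + a x = 0 := by rw [← two_smul K, h2, zero_smul]
    have h10 : x + x = 0 := by rw [← two_smul K, h2, zero_smul]
    rw [h8]
    change a x - x + a x = x
    have h11 : a x - x + a x = (a x + a x) - (x + x) + x := by abel
    rw [h11, h9, h10, sub_zero, zero_add]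
  obtain ⟨k, hk⟩ := hr.odd_of_ne_two hr2
  rw [hk, pow_succ, pow_mul, h5, one_pow, one_mul] at ha
  exact ha

end lin

open Matrix

/-- `SL₃(8)`: an element of order 7 commutes with no element of order 73 -/
theorem sl_kill {K : Type*} [Field K] [Fintype K] (hK : Fintype.card K = 8) {A B : SpecialLinearGroup (Fin 3) K}
    (hA : A ^ 73 = 1) (hB : B ^ 7 = 1) (hAB : A * B = B * A) : A = 1 ∨ B = 1 := by
  classical
  have h2 : (2 : K) = 0 := by
    have h3 : ((Fintype.card K : ℕ) : K) = 0 := Nat.cast_card_eq_zero K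
    rw [hK] at h3
    have h4 : (2 : K) ^ 3 = 0 := by
      rw [← h3]
      norm_num
    exact pow_eq_zero_iff (by norm_num) |>.1 h4
  have hmul : ∀ C D : SpecialLinearGroup (Fin 3) K, Matrix.toLin' (C * D).1 = Matrix.toLin' C.1 * Matrix.toLin' D.1 :=
    fun C D => Matrix.toLin'_mul C.1 D.1
  have hone : Matrix.toLin' (1 : SpecialLinearGroup (Fin 3) K).1 = 1 := Matrix.toLin'_one
  have hpow : ∀ (C : SpecialLinearGroup (Fin 3) K) (k : ℕ), Matrix.toLin' (C ^ k).1 = (Matrix.toLin' C.1) ^ k := by
    intro C k
    induction k with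
    | zero => rw [pow_zero, pow_zero, hone]
    | succ k ih => rw [pow_succ, pow_succ, hmul, ih]
  have hinj : ∀ C : SpecialLinearGroup (Fin 3) K, Matrix.toLin' C.1 = 1 → C = 1 := fun C hC =>
    Subtype.ext (Matrix.toLin'.injective (hC.trans hone.symm))
  have hr : Nat.Prime 73 := by norm_num
  rcases lin_kill (K := K) (V := Fin 3 → K) (r := 73) h2 hr (by simp) (by rw [hK]; norm_num)
      (a := Matrix.toLin' A.1) (b := Matrix.toLin' B.1) (by rw [← hpow, hA, hone])
      (by rw [hK, ← hpow, pow_succ, hB, one_mul]) (by rw [← hmul, ← hmul, hAB]) with h | ⟨ζ, h⟩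
  · exact Or.inl (hinj A h)
  · right
    have hBm : B.1 = ζ • 1 := by
      apply Matrix.toLin'.injective
      rw [h, map_smul, Matrix.toLin'_one]
      rfl
    have hdet : ζ ^ 3 = 1 := by
      have h3 := B.2
      rw [hBm, Matrix.det_smul, Matrix.det_one, mul_one, Fintype.card_fin] at h3
      exact h3
    have h7 : ζ ^ 7 = 1 := by
      have hz : ζ ≠ 0 := by
        rintro rfl
        rw [zero_pow (by norm_num)] at hdet
        exact zero_ne_one hdet
      have h4 := FiniteField.pow_card_sub_one_eq_one ζ hz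
      rwa [hK] at h4
    have h1 : ζ = 1 := by
      calc ζ = ζ ^ 7 * ζ := by rw [h7, one_mul]
        _ = (ζ ^ 3) ^ 2 * ζ ^ 2 := by ring
        _ = ζ ^ 2 := by rw [hdet, one_pow, one_mul]
        _ = ζ ^ 2 * ζ ^ 3 * ζ ^ 3 * (ζ ^ 3)⁻¹ * (ζ ^ 3)⁻¹ := by rw [hdet]; simp
        _ = 1 := by
          have h5 : ζ ^ 2 = 1 := by
            have h6 : ζ ^ 7 = (ζ ^ 3) ^ 2 * ζ := by ring
            rw [h7, hdet, one_pow, one_mul] at h6
            rw [← h6, one_pow]
          rw [hdet, h5]
          simp
    apply Subtype.ext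
    rw [hBm, h1, one_smul]
    rfl

/-- `PSL₃(8)` -/
theorem psl_kill {K : Type*} [Field K] [Fintype K] (hK : Fintype.card K = 8) {x w : ProjectiveSpecialLinearGroup (Fin 3) K}
    (hx : orderOf x = 73) (hw : orderOf w = 7) (h : Commute w x) : False := by
  classical
  have hZ : ∀ z : SpecialLinearGroup (Fin 3) K, z ∈ Subgroup.center (SpecialLinearGroup (Fin 3) K) → z = 1 := by
    intro z hz
    obtain ⟨c, hc, h1⟩ := Matrix.SpecialLinearGroup.mem_center_iff.1 hz
    rw [Fintype.card_fin] at hc
    have hz : c ≠ 0 := by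
      rintro rfl
      rw [zero_pow (by norm_num)] at hc
      exact zero_ne_one hc
    have h4 := FiniteField.pow_card_sub_one_eq_one c hz
    rw [hK] at h4
    have h7 : c ^ 7 = 1 := h4
    have h6 : c ^ 7 = (c ^ 3) ^ 2 * c := by ring
    rw [h7, hc, one_pow, one_mul] at h6
    apply Subtype.ext
    rw [← h1, ← h6, map_one]
    rfl
  obtain ⟨A, rfl⟩ := QuotientGroup.mk_surjective x
  obtain ⟨B, rfl⟩ := QuotientGroup.mk_surjective w
  have hinj : ∀ C D : SpecialLinearGroup (Fin 3) K, (C : ProjectiveSpecialLinearGroup (Fin 3) K) =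
      (D : ProjectiveSpecialLinearGroup (Fin 3) K) → C = D := by
    intro C D hCD
    have h1 := hZ _ (QuotientGroup.eq.1 hCD)
    exact (inv_mul_eq_one.1 h1)
  have hA : A ^ 73 = 1 := by
    apply hinj
    have h1 := pow_orderOf_eq_one (A : ProjectiveSpecialLinearGroup (Fin 3) K)
    rw [hx] at h1
    exact h1
  have hB : B ^ 7 = 1 := by
    apply hinj
    have h1 := pow_orderOf_eq_one (B : ProjectiveSpecialLinearGroup (Fin 3) K)
    rw [hw] at h1
    exact h1
  have hAB : A * B = B * A := by
    apply hinj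
    exact h.eq.symm
  rcases sl_kill hK hA hB hAB with h1 | h1
  · rw [h1] at hx
    have h2 : orderOf (1 : ProjectiveSpecialLinearGroup (Fin 3) K) = 73 := hx
    rw [orderOf_one] at h2
    omega
  · rw [h1] at hw
    have h2 : orderOf (1 : ProjectiveSpecialLinearGroup (Fin 3) K) = 7 := hw
    rw [orderOf_one] at h2
    omega

end Cfsg.Agent.H627.Spr
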