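import Cfsg.Agent.H627.Spr.Sec
import Cfsg.Agent.H627.Spr.KillA
import Cfsg.Agent.H627.Spr.KillB

/-!
# Sections of `E₆(q)` and `²E₆(q)` containing the torus of class 12 are of Lie type in the same characteristic
(S3938, helper627)

`name_E6`, `name_TE6`.
-/

set_option autoImplicit false
set_option exponentiation.threshold 700

namespace Cfsg.Agent.H627.Spr

open Cfsg Cfsg.Agent.OrdDiv Cfsg.Agent.H436 Cfsg.Agent.H902 Cfsg.Agent.H902.Names Cfsg.Agent.H915.GN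
  Cfsg.Agent.H290.ElReg Cfsg.Agent.H290.ElTab Cfsg.Agent.H264.FKS Cfsg.Agent.H563.KG

section prim

theorem prim_of_prime' {r u : ℕ} (hu : u.Prime) (h : ¬ u ∣ r) (hr : 1 ≤ r) : Prim r (orderOf ((r : ℕ) : ZMod u)) u := by
  have := Fact.mk hu
  refine ⟨hu, fun m => ?_, h⟩
  rw [orderOf_dvd_iff_pow_eq_one, ← Nat.cast_pow]
  have h1 : 1 ≤ r ^ m := Nat.one_le_pow _ _ hr
  rw [← ZMod.natCast_eq_zero_iff, Nat.cast_sub h1, Nat.cast_one, sub_eq_zero]

theorem ord3 {u r : ℕ} (h3 : ((r : ℕ) : ZMod u) ^ 3 = 1) (h1 : ((r : ℕ) : ZMod u) ≠ 1) :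
    orderOf ((r : ℕ) : ZMod u) = 3 := by
  refine orderOf_eq_prime h3 h1

theorem prim_13 : Prim (3 ^ 1) 3 13 := by
  have h1 := prim_of_prime' (r := 3) (u := 13) (by norm_num) (by norm_num) (by norm_num)
  rw [ord3 (by decide) (by decide)] at h1
  exact h1

theorem prim_73 : Prim (2 ^ 3) 3 73 := by
  have h1 := prim_of_prime' (r := 8) (u := 73) (by norm_num) (by norm_num) (by norm_num)
  rw [ord3 (by decide +kernel) (by decide +kernel)] at h1
  exact h1

end prim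

section kill

variable {A : Type} [Group A] [Finite A] {S : Subgroup A} [S.Normal] [IsSimpleGroup S]

omit [Finite A] [S.Normal] [IsSimpleGroup S] in
/-- two commuting elements of coprime orders in `S` -/
theorem exists_mul {y w : A} (hyS : y ∈ S) (hwS : w ∈ S) (hwy : Commute w y) {a b : ℕ} (hy : orderOf y = a)
    (hw : orderOf w = b) (hab : Nat.Coprime b a) : ∃ z : S, orderOf z = b * a := by
  refine ⟨⟨w * y, mul_mem hwS hyS⟩, ?_⟩
  rw [Subgroup.orderOf_mk, hwy.orderOf_mul_eq_mul_orderOf_of_coprime (by rw [hy, hw]; exact hab), hy, hw]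

theorem kill_E6 (hna : ¬ IsMulCommutative S) (hc : Subgroup.centralizer (S : Set A) = ⊥) {g : Grp} {X : Art.Sh}
    {l a q : ℕ} (hg : IsLie g X l a) (h : OrdDiv.Real g S) (hR : Art.Real X l a (Nat.card S))
    (hm : ((X, (l, a)), q) ∈ sv .E6 sm) {y w : A} (hy : orderOf y = ncl 12 q) (hyS : y ∈ S) (hwy : Commute w y)
    (hw2 : q = 2 → orderOf w = 7) (hw3 : q = 3 → orderOf w = 13) : False := by
  have h13 : ncl 12 2 = 13 := by decide +kernel
  rw [sv_E6] at hm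
  simp only [List.mem_cons, List.not_mem_nil, or_false, Prod.mk.injEq] at hm
  rcases hm with ⟨⟨rfl, rfl, rfl⟩, rfl⟩ | ⟨⟨rfl, rfl, rfl⟩, rfl⟩ | ⟨⟨rfl, rfl, rfl⟩, rfl⟩ | ⟨⟨rfl, rfl, rfl⟩, rfl⟩ |
    ⟨⟨rfl, rfl, rfl⟩, rfl⟩ | ⟨⟨rfl, rfl, rfl⟩, rfl⟩ | ⟨⟨rfl, rfl, rfl⟩, rfl⟩
  · have hwS := mem_of_out hna hc hg h hR (by norm_num : Nat.Prime 7) (by decide +kernel) (hw2 rfl)
    obtain ⟨z, hz⟩ := exists_mul hyS hwS hwy (hy.trans h13) (hw2 rfl) (by norm_num)
    cases hg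
    exact kill_psl2 (l := 3) (a := 3) (by norm_num) (by norm_num) (by norm_num) h (by norm_num) (by norm_num)
      (by norm_num) hz
  · have h1 := dvd_NA_of hna hc hg h hR (by norm_num : Nat.Prime 7) (hw2 rfl)
    revert h1
    decide +kernel
  · have hwS := mem_of_out hna hc hg h hR (by norm_num : Nat.Prime 7) (by decide +kernel) (hw2 rfl)
    obtain ⟨z, hz⟩ := exists_mul hyS hwS hwy (hy.trans h13) (hw2 rfl) (by norm_num)
    cases hg
    exact kill_psl2 (l := 13) (a := 1) (by norm_num) (by norm_num) (by norm_num) h (by norm_num) (by norm_num)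
      (by norm_num) hz
  · have h1 := dvd_NA_of hna hc hg h hR (by norm_num : Nat.Prime 13) (hw3 rfl)
    revert h1
    decide +kernel
  · have h1 := dvd_NA_of hna hc hg h hR (by norm_num : Nat.Prime 7) (hw2 rfl)
    revert h1
    decide +kernel
  · have h1 := dvd_NA_of hna hc hg h hR (by norm_num : Nat.Prime 7) (hw2 rfl)
    revert h1
    decide +kernel
  · have hwS := mem_of_out hna hc hg h hR (by norm_num : Nat.Prime 7) (by decide +kernel) (hw2 rfl)
    have hg' : g = .g2 (3 ^ 1) := by cases hg; rfl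
    rw [hg'] at h
    exact kill_g2 (q := 3 ^ 1) h (r := 13) (m := 13) (s := 7) prim_13 (by norm_num) (by norm_num) (y := ⟨y, hyS⟩)
      (w := ⟨w, hwS⟩) (by rw [Subgroup.orderOf_mk, hy, h13]) (by rw [Subgroup.orderOf_mk, hw2 rfl]) (Subtype.ext hwy.eq)

theorem kill_TE6 (hna : ¬ IsMulCommutative S) (hc : Subgroup.centralizer (S : Set A) = ⊥) {g : Grp} {X : Art.Sh}
    {l a q : ℕ} (hg : IsLie g X l a) (h : OrdDiv.Real g S) (hR : Art.Real X l a (Nat.card S))
    (hm : ((X, (l, a)), q) ∈ sv .TE6 smT) {y w : A} (hy : orderOf y = ncl 12 q) (hyS : y ∈ S) (hwy : Commute w y)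
    (hw3 : q = 3 → orderOf w = 7) : False := by
  have h73 : ncl 12 3 = 73 := by decide +kernel
  rw [sv_TE6] at hm
  simp only [List.mem_cons, List.not_mem_nil, or_false, Prod.mk.injEq] at hm
  rcases hm with ⟨⟨rfl, rfl, rfl⟩, rfl⟩ | ⟨⟨rfl, rfl, rfl⟩, rfl⟩ | ⟨⟨rfl, rfl, rfl⟩, rfl⟩
  · have h1 := dvd_NA_of hna hc hg h hR (by norm_num : Nat.Prime 7) (hw3 rfl)
    revert h1
    decide +kernel
  · have hwS := mem_of_out hna hc hg h hR (by norm_num : Nat.Prime 7) (by decide +kernel) (hw3 rfl)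
    have hg' : g = .psl 3 (2 ^ 3) := by cases hg; rfl
    rw [hg'] at h
    obtain ⟨F, _, _, hF, ⟨e⟩⟩ := h
    refine psl_kill (K := F) (by rw [hF]; norm_num) (x := e ⟨y, hyS⟩) (w := e ⟨w, hwS⟩)
      (by rw [MulEquiv.orderOf_eq, Subgroup.orderOf_mk, hy, h73])
      (by rw [MulEquiv.orderOf_eq, Subgroup.orderOf_mk, hw3 rfl]) ?_
    exact Commute.map (show Commute (⟨w, hwS⟩ : S) ⟨y, hyS⟩ from Subtype.ext hwy.eq) e
  · have hwS := mem_of_out hna hc hg h hR (by norm_num : Nat.Prime 7) (by decide +kernel) (hw3 rfl)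
    have hg' : g = .g2 (2 ^ 3) := by cases hg; rfl
    rw [hg'] at h
    exact kill_g2 (q := 2 ^ 3) h (r := 73) (m := 73) (s := 7) prim_73 (by norm_num) (by norm_num) (y := ⟨y, hyS⟩)
      (w := ⟨w, hwS⟩) (by rw [Subgroup.orderOf_mk, hy, h73]) (by rw [Subgroup.orderOf_mk, hw3 rfl]) (Subtype.ext hwy.eq)

/-- sporadic groups -/
theorem kill_spor (hna : ¬ IsMulCommutative S) (hc : Subgroup.centralizer (S : Set A) = ⊥) {x : Grp × ℕ}
    (hx : x ∈ Cfsg.Agent.OrdDiv.spor) (h : OrdDiv.Real x.1 S) {r : ℕ} (hr : r.Prime) {w : A} (hw : orderOf w = r) :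
    r ∣ Nat.card S := by
  refine H290.ElFin.prime_dvd_of_oddInn hc (H290.ElFin.oddInn_of_spor hx h) ?_ hr (hw ▸ orderOf_dvd_natCard w)
  have hns : ¬ Group.IsSolvable S := fun hs => hna ⟨⟨IsSimpleGroup.comm_iff_isSolvable.2 hs⟩⟩
  by_contra h2
  exact hns (Cfsg.Agent.S0205.result (Nat.not_even_iff_odd.1 fun h3 => h2 (even_iff_two_dvd.1 h3)))

end kill

/-- **simple sections of `E₆(q)` containing the torus of class 12** -/
theorem name_E6 (tb : OrderTable.{0})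
    (hcf : ∀ (S : Type) [Group S] [Finite S] [IsSimpleGroup S], IsKnownSimple' S)
    {p f : ℕ} (hp : p.Prime) (hf : 1 ≤ f) {F : Type} [Field F] [CharP F p] {T : Type} [Group T] [Finite T]
    (hrep : Fth 78 F T) (hdT : Nat.card T ∣ OL .E6 (p ^ f)) {K : Subgroup T} {O : Subgroup K} [O.Normal]
    (hO : IsCyclic O) (hO5 : ∀ r : ℕ, r.Prime → r ∣ Nat.card O → 5 ≤ r) {S : Subgroup (K ⧸ O)} [S.Normal]
    [IsSimpleGroup S] (hna : ¬ IsMulCommutative S) (hc : Subgroup.centralizer (S : Set (K ⧸ O)) = ⊥)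
    {y w : K ⧸ O} (hy : orderOf y = ncl 12 (p ^ f)) (hyS : y ∈ S)
    (hcyc : ∀ r, Prim (p ^ f) 12 r → ∀ x : S, orderOf x = r → IsCyclic ↥(Subgroup.centralizer {x}))
    (hwy : Commute w y) (hw2 : p ^ f = 2 → orderOf w = 7) (hw3 : p ^ f = 3 → orderOf w = 13) :
    ∃ g, IsNamed g S ∧ HasChar p g := by
  have hq : 2 ≤ p ^ f := hp.two_le.trans (Nat.le_self_pow (by omega) p)
  have hdS : Nat.card S ∣ OL .E6 (p ^ f) :=
    ((Subgroup.card_subgroup_dvd_card S).trans (Subgroup.card_quotient_dvd_card O)).trans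
      ((Subgroup.card_subgroup_dvd_card K).trans hdT)
  have hn : ncl 12 (p ^ f) ∣ Nat.card S := by
    rw [← hy, ← Subgroup.orderOf_mk y hyS]
    exact orderOf_dvd_natCard _
  have hle : OL .E6 (p ^ f) ≤ (p ^ f) ^ 80 := OL_E6_le.trans (Nat.pow_le_pow_right (by omega) (by norm_num))
  rcases survivors tb hp hf (fun x hx _ _ => hx) hle (OL_E6_pos hq) (fun _ => by decide +kernel) hO5 hna
    (hcf S) (pe_of_section hrep hO hna) hn hdS hcyc with h | ⟨g, X, l, a, hg, hL, hR, hm⟩ | ⟨x, hx, hg, hcd, hm⟩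
  · exact h
  · exact (kill_E6 hna hc hL hg.real hR hm hy hyS hwy hw2 hw3).elim
  · exfalso
    rw [svs_E6, List.mem_singleton, Prod.mk.injEq] at hm
    have h1 := kill_spor hna hc hx hg.real (by norm_num : Nat.Prime 7) (hw2 hm.2)
    rw [hcd, hm.1] at h1
    revert h1
    decide +kernel

/-- **simple sections of `²E₆(q)` containing the torus of class 12** -/
theorem name_TE6 (tb : OrderTable.{0})
    (hcf : ∀ (S : Type) [Group S] [Finite S] [IsSimpleGroup S], IsKnownSimple' S)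
    {p f : ℕ} (hp : p.Prime) (hf : 1 ≤ f) (hq3 : 3 ≤ p ^ f) {F : Type} [Field F] [CharP F p] {T : Type} [Group T]
    [Finite T] (hrep : Fth 78 F T) (hdT : Nat.card T ∣ OL .TE6 (p ^ f)) {K : Subgroup T} {O : Subgroup K} [O.Normal]
    (hO : IsCyclic O) (hO5 : ∀ r : ℕ, r.Prime → r ∣ Nat.card O → 5 ≤ r) {S : Subgroup (K ⧸ O)} [S.Normal]
    [IsSimpleGroup S] (hna : ¬ IsMulCommutative S) (hc : Subgroup.centralizer (S : Set (K ⧸ O)) = ⊥)
    {y w : K ⧸ O} (hy : orderOf y = ncl 12 (p ^ f)) (hyS : y ∈ S)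
    (hcyc : ∀ r, Prim (p ^ f) 12 r → ∀ x : S, orderOf x = r → IsCyclic ↥(Subgroup.centralizer {x}))
    (hwy : Commute w y) (hw3 : p ^ f = 3 → orderOf w = 7) :
    ∃ g, IsNamed g S ∧ HasChar p g := by
  have hq : 2 ≤ p ^ f := by omega
  have hdS : Nat.card S ∣ OL .TE6 (p ^ f) :=
    ((Subgroup.card_subgroup_dvd_card S).trans (Subgroup.card_quotient_dvd_card O)).trans
      ((Subgroup.card_subgroup_dvd_card K).trans hdT)
  have hn : ncl 12 (p ^ f) ∣ Nat.card S := by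
    rw [← hy, ← Subgroup.orderOf_mk y hyS]
    exact orderOf_dvd_natCard _
  have hL : ∀ x ∈ sm, x.2 = p ^ f → x.1 = p → x ∈ smT := by
    intro x hx h1 _
    have h2 : ∀ x ∈ sm, x.2 = 2 ∨ x ∈ smT := by decide
    exact (h2 x hx).resolve_left (by omega)
  rcases survivors tb hp hf hL (OL_TE6_le hq) (OL_TE6_pos hq) (fun h => by omega) hO5 hna
    (hcf S) (pe_of_section hrep hO hna) hn hdS hcyc with h | ⟨g, X, l, a, hg, hL, hR, hm⟩ | ⟨x, hx, hg, hcd, hm⟩
  · exact h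
  · exact (kill_TE6 hna hc hL hg.real hR hm hy hyS hwy hw3).elim
  · rw [svs_TE6] at hm
    exact absurd hm List.not_mem_nil

end Cfsg.Agent.H627.Spr
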