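import Cfsg.Agent.H627.Spr.PE
import Cfsg.Agent.H627.Spr.Tab
import Cfsg.Agent.H563.KG.Elim

/-!
# Simple sections containing a torus of class 12, `E₆` and `²E₆`: the survivors (S3938, helper627)
-/

set_option autoImplicit false
set_option exponentiation.threshold 700

namespace Cfsg.Agent.H627.Spr

open Cfsg Cfsg.Agent.OrdDiv Cfsg.Agent.H436 Cfsg.Agent.H902 Cfsg.Agent.H902.Names Cfsg.Agent.H915.GN
  Cfsg.Agent.H290.ElReg Cfsg.Agent.H290.ElTab Cfsg.Agent.H290.ElCross Cfsg.Agent.H264.FKS Cfsg.Agent.H563.KG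
  Cfsg.Agent.H290.KTF4

variable {Y : Art.Sh} {L : List (ℕ × ℕ)} {p f : ℕ}

theorem mod_of_dvd {q : ℕ} (hq : 2 ≤ q) {r : ℕ} (hr : r.Prime) (h : r ∣ ncl 12 q) : (r - 1) % 12 = 0 :=
  mod_of_prim hq (by norm_num) (prim_of_dvd (Or.inr (Or.inr (Or.inl rfl))) (by omega) hr h)

/-- cross characteristic, degree at most 78 -/
theorem cross (hL : ∀ x ∈ sm, x.2 = p ^ f → x.1 = p → x ∈ L) {X : Art.Sh} {l a N : ℕ}
    (hR : Art.Real X l a N) (hlb : lb X (l ^ a) ≤ 78) (hp : p.Prime) (hf : 1 ≤ f) (hpl : p ≠ l)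
    (hn : ncl 12 (p ^ f) ∣ N) (hd : N ∣ OL Y (p ^ f)) : ((X, (l, a)), p ^ f) ∈ sv Y L := by
  have hq : 2 ≤ p ^ f := hp.two_le.trans (Nat.le_self_pow (by omega) p)
  have h1 := le_cross' (by norm_num : 78 ≤ 248) bndR_78_12 hR hlb (fun r hr h => mod_of_dvd hq hr h) hn
  have h2 := le_seven12 h1
  have h3 := hL _ (mem_sm hp hf h2) rfl rfl
  obtain ⟨hl, ha, hokX, heq⟩ := hR
  have hM : OL X (l ^ a) = Art.dd X (l ^ a) * N := by unfold OL; rw [numL_eq]; exact heq.symm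
  have hreg := mem_reg (n := 78) (by norm_num) hl ha hokX hlb
  unfold sv
  refine List.mem_flatMap.2 ⟨(X, (l, a)), hreg, List.mem_map.2 ⟨(p, p ^ f), List.mem_filter.2 ⟨h3, ?_⟩, rfl⟩⟩
  rw [Bool.and_eq_true]
  refine ⟨?_, ?_⟩
  · simpa using hpl
  · refine tq_of (fun e he => ?_) hM hd
    rw [List.mem_singleton] at he
    subst he
    rw [hM]
    exact hn.mul_left _

/-- sporadic groups -/
theorem spor (hL : ∀ x ∈ sm, x.2 = p ^ f → x.1 = p → x ∈ L) {x : Grp × ℕ}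
    (hx : x ∈ Cfsg.Agent.OrdDiv.spor) (hp : p.Prime) (hf : 1 ≤ f)
    (hn : ncl 12 (p ^ f) ∣ x.2) (hd : x.2 ∣ OL Y (p ^ f)) : (x.2, p ^ f) ∈ svs Y L := by
  have hq : 2 ≤ p ^ f := hp.two_le.trans (Nat.le_self_pow (by omega) p)
  have h1 := le_spor' Cfsg.Agent.H563.KG.bndS_12 hx (fun r hr h => mod_of_dvd hq hr h) hn
  have h2 := le_seven12 h1
  have h3 := hL _ (mem_sm hp hf h2) rfl rfl
  unfold svs
  refine List.mem_flatMap.2 ⟨x, hx, List.mem_map.2 ⟨(p, p ^ f), List.mem_filter.2 ⟨h3, ?_⟩, rfl⟩⟩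
  refine tq_of (fun e he => ?_) (one_mul _).symm hd
  rw [List.mem_singleton] at he
  subst he
  exact hn

/-- the two groups without degree bound -/
theorem two (hp : p.Prime) (hf : 1 ≤ f) {X : Art.Sh} {l a N : ℕ} (hR : Art.Real X l a N) (hpl : p ≠ l)
    (h : (X = .F4 ∧ l ^ a = 2) ∨ (X = .TE6 ∧ l ^ a = 2)) (hn : ncl 12 (p ^ f) ∣ N) : False := by
  have hq : 2 ≤ p ^ f := hp.two_le.trans (Nat.le_self_pow (by omega) p)
  obtain ⟨hl, ha, hokX, heq⟩ := hR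
  have hl2 : l = 2 := by
    have h1 : l ^ a = 2 := by rcases h with h | h <;> exact h.2
    have h2 : l ∣ 2 := by rw [← h1]; exact dvd_pow_self l (by omega)
    exact (Nat.prime_dvd_prime_iff_eq hl Nat.prime_two).1 h2
  have hM : OL X (l ^ a) = Art.dd X (l ^ a) * N := by unfold OL; rw [numL_eq]; exact heq.symm
  have h1 : ncl 12 (p ^ f) ∣ OL X (l ^ a) := by rw [hM]; exact hn.mul_left _
  have key : ∀ M : ℕ, M ≠ 0 → M < 2 ^ 600 → (∀ r, r.Prime → r ∣ M → r ∈ prs) → De prs M 12 ≤ 13 →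
      De prs M 12 ≠ 0 → ncl 12 (p ^ f) ∣ M → ncl 12 (p ^ f) ≤ 13 := by
    intro M h0 h2 h3 h4 h5 h6
    exact (Nat.le_of_dvd (Nat.pos_of_ne_zero h5) (dvd_De h0 h2 h6 fun r hr hrd =>
      ⟨h3 r hr (hrd.trans h6), mod_of_dvd hq hr hrd⟩)).trans h4
  have hprs : ∀ M : ℕ, prs.prod ^ 100 % M = 0 → ∀ r, r.Prime → r ∣ M → r ∈ prs := by
    intro M hM r hr hrd
    have h2 : r ∣ prs.prod := hr.dvd_of_dvd_pow (hrd.trans (Nat.dvd_of_mod_eq_zero hM))
    obtain ⟨s, hs, hrs⟩ := (Prime.dvd_prod_iff hr.prime).1 h2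
    have h3 : s.Prime := by
      have : ∀ s ∈ prs, s.Prime := by
        intro s hs
        have h4 : prs.all (fun s => decide (s < 620) && (List.range 620).all fun d => decide (d ≤ 1) || decide (s ≤ d) || !(s % d == 0)) = true := by
          decide +kernel
        have h5 := List.all_eq_true.1 h4 s hs
        have h8 : 2 ≤ s := by
          have h9 : prs.all (fun s => Nat.ble 2 s) = true := by decide +kernel
          exact Nat.le_of_ble_eq_true (List.all_eq_true.1 h9 s hs)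
        rw [Bool.and_eq_true, decide_eq_true_eq, List.all_eq_true] at h5
        refine Nat.prime_def.2 ⟨h8, fun d hd => ?_⟩
        have hle := Nat.le_of_dvd (by omega) hd
        have h6 := h5.2 d (List.mem_range.2 (by omega))
        simp only [Bool.or_eq_true, decide_eq_true_eq, Bool.not_eq_true', beq_eq_false_iff_ne, ne_eq] at h6
        rcases h6 with (h6 | h6) | h6
        · have : 0 < d := Nat.pos_of_dvd_of_pos hd (by omega)
          omega
        · omega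
        · exact absurd (Nat.mod_eq_zero_of_dvd hd) h6
      exact this s hs
    rwa [(Nat.prime_dvd_prime_iff_eq hr h3).1 hrs]
  have h2 : ncl 12 (p ^ f) ≤ 13 := by
    rcases h with ⟨rfl, hla⟩ | ⟨rfl, hla⟩
    · rw [hla] at h1
      exact key _ (by decide +kernel) (by decide +kernel) (hprs _ (by decide +kernel)) (by decide +kernel)
        (by decide +kernel) h1
    · rw [hla] at h1
      exact key _ (by decide +kernel) (by decide +kernel) (hprs _ (by decide +kernel)) (by decide +kernel)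
        (by decide +kernel) h1
  have h3 : p ^ f < 3 := by
    by_contra hcon
    have := ncl12_gt (q := p ^ f) (by omega)
    omega
  have h4 : p = 2 := by
    have h5 : p ≤ p ^ f := Nat.le_self_pow (by omega) p
    have := hp.two_le
    omega
  exact hpl (h4.trans hl2.symm)

theorem OL_E6_le {q : ℕ} : OL .E6 q ≤ q ^ 78 := by
  have h : OL .E6 q = q ^ 36 * ((q ^ 2 - 1) * (q ^ 5 - 1) * (q ^ 6 - 1) * (q ^ 8 - 1) * (q ^ 9 - 1) * (q ^ 12 - 1)) := rfl
  have h2 : q ^ 78 = q ^ 36 * (q ^ 2 * q ^ 5 * q ^ 6 * q ^ 8 * q ^ 9 * q ^ 12) := by ring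
  rw [h, h2]
  gcongr <;> exact Nat.sub_le _ _

theorem OL_E6_pos {q : ℕ} (hq : 2 ≤ q) : 0 < OL .E6 q := by
  have h : OL .E6 q = q ^ 36 * ((q ^ 2 - 1) * (q ^ 5 - 1) * (q ^ 6 - 1) * (q ^ 8 - 1) * (q ^ 9 - 1) * (q ^ 12 - 1)) := rfl
  have h1 : ∀ k, k ≠ 0 → 0 < q ^ k - 1 := fun k hk => Nat.sub_pos_of_lt (Nat.one_lt_pow hk hq)
  have h2 := h1 2 (by norm_num)
  have h5 := h1 5 (by norm_num)
  have h6 := h1 6 (by norm_num)
  have h8 := h1 8 (by norm_num)
  have h9 := h1 9 (by norm_num)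
  have h12 := h1 12 (by norm_num)
  rw [h]
  positivity

theorem OL_TE6_pos {q : ℕ} (hq : 2 ≤ q) : 0 < OL .TE6 q := by
  have h : OL .TE6 q = q ^ 36 * ((q ^ 2 - 1) * (q ^ 5 + 1) * (q ^ 6 - 1) * (q ^ 8 - 1) * (q ^ 9 + 1) * (q ^ 12 - 1)) := rfl
  have h1 : ∀ k, k ≠ 0 → 0 < q ^ k - 1 := fun k hk => Nat.sub_pos_of_lt (Nat.one_lt_pow hk hq)
  have h2 := h1 2 (by norm_num)
  have h6 := h1 6 (by norm_num)
  have h8 := h1 8 (by norm_num)
  have h12 := h1 12 (by norm_num)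
  rw [h]
  positivity

theorem OL_TE6_le {q : ℕ} (hq : 2 ≤ q) : OL .TE6 q ≤ q ^ 80 := by
  have h : OL .TE6 q = q ^ 36 * ((q ^ 2 - 1) * (q ^ 5 + 1) * (q ^ 6 - 1) * (q ^ 8 - 1) * (q ^ 9 + 1) * (q ^ 12 - 1)) := rfl
  have h2 : q ^ 80 = q ^ 36 * (q ^ 2 * q ^ 6 * q ^ 6 * q ^ 8 * q ^ 10 * q ^ 12) := by ring
  have h3 : ∀ k, q ^ k + 1 ≤ q ^ (k + 1) := by
    intro k
    have h4 : 1 ≤ q ^ k := Nat.one_le_pow _ _ (by omega)
    have h5 : q ^ k * 2 ≤ q ^ k * q := Nat.mul_le_mul_left _ hq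
    rw [pow_succ]
    omega
  rw [h, h2]
  have h5 := h3 5
  have h9 := h3 9
  gcongr
  · exact Nat.sub_le _ _
  · exact Nat.sub_le _ _
  · exact Nat.sub_le _ _
  · exact Nat.sub_le _ _

/-- large alternating groups are too large -/
theorem alt_big {q m : ℕ} (hq : 3 ≤ q) (hm : ncl 12 q ≤ m) : 2 * q ^ 80 < m.factorial := by
  have h1 : ncl 12 q = q ^ 4 - q ^ 2 + 1 := ncl12_eq q
  have h2 : q ^ 3 + 29 ≤ ncl 12 q := by
    rw [h1]
    have h3 : q ^ 4 = q ^ 3 * q := by ring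
    have h4 : q ^ 3 = q ^ 2 * q := by ring
    have h5 : q ^ 3 * 3 ≤ q ^ 3 * q := Nat.mul_le_mul_left _ hq
    have h6 : q ^ 2 * 3 ≤ q ^ 2 * q := Nat.mul_le_mul_left _ hq
    have h7 : 3 ^ 3 ≤ q ^ 3 := Nat.pow_le_pow_left hq 3
    have h8 : 3 ^ 2 ≤ q ^ 2 := Nat.pow_le_pow_left hq 2
    rcases Nat.lt_or_ge q 4 with h9 | h9
    · have : q = 3 := by omega
      subst this
      norm_num
    · have h10 : q ^ 3 * 4 ≤ q ^ 3 * q := Nat.mul_le_mul_left _ h9
      have h11 : 4 ^ 3 ≤ q ^ 3 := Nat.pow_le_pow_left h9 3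
      omega
  have h27 : 3 ^ 3 ≤ q ^ 3 := Nat.pow_le_pow_left hq 3
  have h3 : (q ^ 3) ^ 30 ≤ m.factorial := by
    calc (q ^ 3) ^ 30 ≤ (m + 1 - 30) ^ 30 := Nat.pow_le_pow_left (by omega) 30
      _ ≤ m.descFactorial 30 := Nat.pow_sub_le_descFactorial m 30
      _ ≤ m.factorial := by
        rw [← Nat.factorial_mul_descFactorial (show 30 ≤ m by omega)]
        exact Nat.le_mul_of_pos_left _ (Nat.factorial_pos _)
  have h4 : 2 * q ^ 80 < (q ^ 3) ^ 30 := by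
    have h5 : (q ^ 3) ^ 30 = q ^ 10 * q ^ 80 := by ring
    rw [h5]
    refine Nat.mul_lt_mul_of_pos_right ?_ (pow_pos (by omega) _)
    calc 2 < 3 ^ 10 := by norm_num
      _ ≤ q ^ 10 := Nat.pow_le_pow_left hq 10
  exact h4.trans_le h3

/-- **the survivors** -/
theorem survivors (tb : OrderTable.{0}) {Y : Art.Sh} {L : List (ℕ × ℕ)} {p f : ℕ} (hp : p.Prime) (hf : 1 ≤ f)
    (hL : ∀ x ∈ sm, x.2 = p ^ f → x.1 = p → x ∈ L) (hY : OL Y (p ^ f) ≤ (p ^ f) ^ 80)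
    (hY0 : 0 < OL Y (p ^ f)) (hY2 : p ^ f = 2 → ¬ 11 ∣ OL Y 2)
    {F : Type} [Field F] [CharP F p] {o : ℕ} (ho : ∀ r : ℕ, r.Prime → r ∣ o → 5 ≤ r)
    {S : Type} [Group S] [Finite S] [IsSimpleGroup S] (hna : ¬ IsMulCommutative S) (hK : IsKnownSimple' S)
    (hrep : PE 78 F o S) (hn : ncl 12 (p ^ f) ∣ Nat.card S) (hd : Nat.card S ∣ OL Y (p ^ f))
    (hcyc : ∀ r, Prim (p ^ f) 12 r → ∀ x : S, orderOf x = r → IsCyclic ↥(Subgroup.centralizer {x})) :
    (∃ g, IsNamed g S ∧ HasChar p g) ∨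
      (∃ g X l a, IsNamed g S ∧ IsLie g X l a ∧ Art.Real X l a (Nat.card S) ∧ ((X, (l, a)), p ^ f) ∈ sv Y L) ∨
      ∃ x ∈ Cfsg.Agent.OrdDiv.spor, IsNamed x.1 S ∧ Nat.card S = x.2 ∧ (x.2, p ^ f) ∈ svs Y L := by
  have hna' : ¬ ∀ a b : S, a * b = b * a := fun h => hna ⟨⟨h⟩⟩
  have hq : 2 ≤ p ^ f := hp.two_le.trans (Nat.le_self_pow (by omega) p)
  obtain ⟨g, hgS⟩ := exists_named tb hK hna'
  rcases Cfsg.Agent.H192.Singer.cases_name hgS.cond with ⟨m, rfl⟩ | hsp | ⟨l, hl, hch⟩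
  · exfalso
    obtain ⟨Φ⟩ : Nonempty (S ≃* alternatingGroup (Fin m)) := hgS.real
    have hm : 5 ≤ m := hgS.cond
    have hnil : ∀ r, Prim (p ^ f) 12 r → ∀ x : S, orderOf x = r →
        Group.IsNilpotent (Subgroup.centralizer ({x} : Set S)) := by
      intro r hr x hx
      have := hcyc r hr x hx
      let _ := IsCyclic.commGroup (α := ↥(Subgroup.centralizer ({x} : Set S)))
      infer_instance
    have h1 := window hq (Or.inr (Or.inr (Or.inl rfl))) (by norm_num) (by omega) Φ hn hnil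
    have : Nontrivial (Fin m) := Fin.nontrivial_iff_two_le.2 (by omega)
    have h4 : 2 * Nat.card S = m.factorial := by
      rw [Nat.card_congr Φ.toEquiv, Nat.card_eq_fintype_card, two_mul_card_alternatingGroup, Fintype.card_perm,
        Fintype.card_fin]
    rcases Nat.lt_or_ge (p ^ f) 3 with h3 | h3
    · have h2 : p ^ f = 2 := by omega
      rw [h2] at h1 hd
      have h5 : ncl 12 2 = 13 := by decide +kernel
      have h6 : 11 ∣ m.factorial := (Nat.Prime.dvd_factorial (by norm_num)).2 (by omega)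
      rw [← h4] at h6
      have h7 : 11 ∣ Nat.card S := (Nat.Coprime.dvd_of_dvd_mul_left (by norm_num) h6)
      exact hY2 h2 (h7.trans hd)
    · have h5 := alt_big h3 h1.1
      have h6 := Nat.le_of_dvd hY0 hd
      omega
  · right; right
    have h1 := Cfsg.Agent.H192.Singer.spor_mem hsp
    have h2 : Nat.card S = ordN g := hgS.ord
    exact ⟨(g, ordN g), h1, hgS, h2, spor hL h1 hp hf (by rw [← h2]; exact hn) (by rw [← h2]; exact hd)⟩
  · by_cases hpl : p = l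
    · subst hpl
      exact Or.inl ⟨g, hgS, hch⟩
    · right; left
      obtain ⟨X, f₁, h1, h2, -⟩ := exists_lie hl hgS hch
      have hlF : (l : F) ≠ 0 := by
        intro h
        exact hpl ((Nat.prime_dvd_prime_iff_eq hp hl).1 ((CharP.cast_eq_zero_iff F p l).1 h))
      rcases hrep.lb_le hna' ho h1 hgS hch h2 hlF with h3 | h3
      · exact ⟨g, X, l, f₁, hgS, h1, h2, cross hL h2 h3 hp hf hpl hn hd⟩
      · exact (two hp hf h2 hpl h3 hn).elim

end Cfsg.Agent.H627.Spr
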