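import Cfsg.Agent.H290.ElReg
import Cfsg.Agent.H912.MultChar
import Cfsg.Agent.H759.Af.Dvd

/-!
# Degrees of perfect central extensions in cross characteristic (S3938, E6 and 2E6, helper627)

`PE n F o S` : a finite perfect central extension of `S` with kernel of order dividing `o` has a faithful representation of
degree `n` over `F`.  `PE.lb_le` : the bound `lb` of `H290.ElReg`.
-/

set_option autoImplicit false

namespace Cfsg.Agent.H627.Spr

open Cfsg Cfsg.Agent.OrdDiv Cfsg.Agent.H902 Cfsg.Agent.H902.Names Cfsg.Agent.H912.Bd Cfsg.Agent.H203.LS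
  Cfsg.Agent.H290.ElReg Cfsg.Agent.H915.GN Cfsg.Agent.H436 Cfsg.Agent.H759.Af

/-- a perfect central extension with a faithful representation of degree `n` -/
def PE (n : ℕ) (F : Type) [Field F] (o : ℕ) (S : Type) [Group S] : Prop :=
  ∃ (E : Type) (_ : Group E) (_ : Finite E) (π : E →* S) (ρ : E →* Matrix.GeneralLinearGroup (Fin n) F),
    Function.Surjective π ∧ commutator E = ⊤ ∧ π.ker ≤ Subgroup.center E ∧ Nat.card π.ker ∣ o ∧ Function.Injective ρ

variable {n : ℕ} {F : Type} [Field F] {o : ℕ} {S : Type} [Group S] {l a : ℕ}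

theorem PE.pr (h : PE n F o S) (ho : ∀ r : ℕ, r.Prime → r ∣ o → 5 ≤ r) (hl : l.Prime)
    (hL : IsLieTypeChar l S) : PR F n l S := by
  obtain ⟨E, _, _, π, ρ, h1, h2, h3, h4, h5⟩ := h
  refine ⟨E, inferInstance, π, ρ, h1, fun x hx y => ?_, ?_, ?_⟩
  · exact ((Subgroup.mem_center_iff.1 (h3 (MonoidHom.mem_ker.2 hx))) y).symm
  · rcases Nat.lt_or_ge l 5 with h6 | h6
    · rw [Nat.coprime_comm, Nat.Prime.coprime_iff_not_dvd hl]
      intro h7
      have := ho l hl (h7.trans h4)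
      omega
    · exact noR_of_five_le hl h6 hL E h2 π h1 h3
  · rw [(MonoidHom.ker_eq_bot_iff ρ).2 h5]
    exact bot_le

theorem PE.ls_le [Finite S] [IsSimpleGroup S] (hna : ¬ ∀ a b : S, a * b = b * a) {r d : ℕ}
    (h : LS.{0, 0, 0} r d S) (hf : PE n F o S) (hr : (r : F) ≠ 0) : d ≤ n := by
  obtain ⟨E, _, _, π, ρ, h1, h2, h3, h4, h5⟩ := hf
  refine h E π h1 h3 h2 F hr n ρ ?_
  rintro rfl
  apply hna
  intro a b
  obtain ⟨a', rfl⟩ := h1 a
  obtain ⟨b', rfl⟩ := h1 b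
  have h6 : a' = b' := h5 rfl
  rw [h6]

section

theorem le_psl (hf : PR F n l S) (hl : l.Prime) (hlF : (l : F) ≠ 0) {m : ℕ} {K : Type} [Field K] [Fintype K]
    (hK : Fintype.card K = l ^ a) (hm : 2 ≤ m) (e : S ≃* Matrix.ProjectiveSpecialLinearGroup (Fin m) K) :
    lb (.L m) (l ^ a) ≤ n := by
  have := charP_of_pow hl hK
  by_cases h2 : m = 2
  · subst h2
    show (if 2 = 2 then (l ^ a - 1) / Nat.gcd 2 (l ^ a - 1) else (l ^ a) ^ (2 - 1) - 1) ≤ n
    rw [if_pos rfl]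
    refine H203.BdSL2.bd_of_sl2 hl hK hlF (e.symm.toMonoidHom.comp (QuotientGroup.mk' _)) ?_ n hf
    intro x hx
    have h1 : e.symm (QuotientGroup.mk' _ x) = 1 := hx
    rw [MulEquiv.map_eq_one_iff, QuotientGroup.mk'_apply, QuotientGroup.eq_one_iff] at h1
    exact h1
  · show (if m = 2 then (l ^ a - 1) / Nat.gcd 2 (l ^ a - 1) else (l ^ a) ^ (m - 1) - 1) ≤ n
    rw [if_neg h2, ← hK]
    exact (bd_psl (F := F) hl hlF (by omega) inferInstance).congr e n hf

theorem le_psu (hf : PR F n l S) (hl : l.Prime) (hlF : (l : F) ≠ 0) {m : ℕ} {K : Type} [Field K] [Fintype K]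
    (hK : Fintype.card K = (l ^ a) ^ 2) (hm : 3 ≤ m) (e : S ≃* PSU m K (l ^ a)) : lb (.U m) (l ^ a) ≤ n := by
  have := charP_of_pow hl (a := a * 2) (by rw [hK, pow_mul])
  exact H175.BdSU.bd_psu (F := F) hl hK hm hlF e n hf

theorem le_psp (hf : PR F n l S) (hl : l.Prime) (hlF : (l : F) ≠ 0) (ha : 1 ≤ a) {m : ℕ} {K : Type} [Field K]
    [Fintype K] (hK : Fintype.card K = l ^ a) (hm : 2 ≤ m) (e : S ≃* PSp m K) : lb (.C m) (l ^ a) ≤ n := by
  have := charP_of_pow hl hK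
  show (if l ^ a % 2 = 0 then (l ^ a) ^ m - 1 else if m ≤ 3 then ((l ^ a) ^ m - 1) / 2 else (l ^ a) ^ (m - 1) - 1) ≤ n
  have h1 : ((l ^ a) ^ m - 1) / 2 ≤ n := H175.BdSp.bd_psp (F := F) hl hK (by omega) hlF e n hf
  split_ifs with h2 h3
  · have h4 : l = 2 := by
      have h5 : 2 ∣ l ^ a := Nat.dvd_of_mod_eq_zero h2
      exact ((Nat.prime_dvd_prime_iff_eq Nat.prime_two hl).1 (Nat.prime_two.dvd_of_dvd_pow h5)).symm
    subst h4
    exact H175.BdSp.bd_psp_even (F := F) hK (by omega) (by exact_mod_cast hlF) e n hf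
  · exact h1
  · refine (half_le ?_ (by omega)).trans h1
    have h4 : l ^ 1 ≤ l ^ a := Nat.pow_le_pow_right hl.pos ha
    have h5 := hl.two_le
    rw [pow_one] at h4
    omega

theorem le_oodd (hf : PR F n l S) (hl : l.Prime) (hlF : (l : F) ≠ 0) {m : ℕ} {K : Type} [Field K] [Fintype K]
    (hK : Fintype.card K = l ^ a) (hm : 3 ≤ m) (ho : Odd (l ^ a)) (e : S ≃* POmega K (quadFormOdd m K)) :
    lb (.C m) (l ^ a) ≤ n := by
  have hc := charP_of_pow hl hK
  show (if l ^ a % 2 = 0 then (l ^ a) ^ m - 1 else if m ≤ 3 then ((l ^ a) ^ m - 1) / 2 else (l ^ a) ^ (m - 1) - 1) ≤ n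
  rw [if_neg (by rw [Nat.odd_iff.1 ho]; norm_num)]
  split_ifs with h3
  · have h4 : m = 3 := by omega
    subst h4
    have h5 := (bd_pomega_odd_cube (F := F) hl hlF hc (m := 3) le_rfl).congr e n hf
    rw [hK] at h5
    omega
  · have h5 := (bd_pomega_odd_sl (F := F) hl hlF hc (m := m) hm).congr e n hf
    rwa [hK] at h5

theorem le_oplus (hf : PR F n l S) (hl : l.Prime) (hlF : (l : F) ≠ 0) {m : ℕ} {K : Type} [Field K] [Fintype K]
    (hK : Fintype.card K = l ^ a) (hm : 4 ≤ m) (e : S ≃* POmega K (quadFormPlus m K)) :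
    lb (.D m) (l ^ a) ≤ n := by
  have hc := charP_of_pow hl hK
  have h5 := (bd_pomega_plus_sl (F := F) hl hlF hc (m := m) (by omega)).congr e n hf
  rwa [hK] at h5

theorem le_ominus (hf : PR F n l S) (hl : l.Prime) (hlF : (l : F) ≠ 0) {m : ℕ} {K : Type} [Field K] [Fintype K]
    (hK : Fintype.card K = l ^ a) (hm : 4 ≤ m) (b c : K) (e : S ≃* POmega K (quadFormMinus (m - 1) K b c)) :
    lb (.DD m) (l ^ a) ≤ n := by
  have hc := charP_of_pow hl hK
  have h4 := (bd_pomega_minus_cube (F := F) hl hlF hc (m := m - 1) (by omega) b c).congr e n hf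
  have h5 := (bd_pomega_minus_sl (F := F) hl hlF hc (m := m - 1) (by omega) b c).congr e n hf
  rw [hK] at h4 h5
  show (l ^ a) ^ (max 3 (m - 2)) - 1 ≤ n
  rcases le_total 3 (m - 2) with h | h
  · rw [max_eq_right h]
    exact h5
  · rw [max_eq_left h]
    exact h4

end

section Exc

variable [Finite S] [IsSimpleGroup S]

/-- **The degree bound** for perfect central extensions (`F₄(2)` and `²E₆(2)` excluded). -/
theorem PE.lb_le (hna : ¬ ∀ a b : S, a * b = b * a) (hf : PE n F o S) (ho : ∀ r : ℕ, r.Prime → r ∣ o → 5 ≤ r)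
    {g : Grp} {X : Art.Sh} (hg : IsLie g X l a) (hN : IsNamed g S) (hch : HasChar l g)
    (hr : Art.Real X l a (Nat.card S)) (hlF : (l : F) ≠ 0) :
    lb X (l ^ a) ≤ n ∨ (X = .F4 ∧ l ^ a = 2) ∨ (X = .TE6 ∧ l ^ a = 2) := by
  obtain ⟨hl, ha, hok, -⟩ := hr
  have hpr : PR F n l S := hf.pr ho hl (isLieTypeChar_of_name hl hN.cond hch hN.real)
  have h := hN.real
  cases hg with
  | psl m p f =>
    obtain ⟨K, _, _, hK, ⟨e⟩⟩ := h
    exact Or.inl (le_psl hpr hl hlF hK hok.1 e)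
  | psp m p f =>
    obtain ⟨K, _, _, hK, ⟨e⟩⟩ := h
    exact Or.inl (le_psp hpr hl hlF ha hK hok.1 e)
  | oodd m p f hm ho =>
    obtain ⟨K, _, _, hK, ⟨e⟩⟩ := h
    exact Or.inl (le_oodd hpr hl hlF hK hm ho e)
  | psu m p f =>
    obtain ⟨K, _, _, hK, ⟨e⟩⟩ := h
    exact Or.inl (le_psu hpr hl hlF hK hok.1 e)
  | oplus m p f =>
    obtain ⟨K, _, _, hK, ⟨e⟩⟩ := h
    exact Or.inl (le_oplus hpr hl hlF hK hok e)
  | ominus m p f =>
    obtain ⟨K, _, _, b, c, hK, hab, ⟨e⟩⟩ := h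
    exact Or.inl (le_ominus hpr hl hlF hK hok b c e)
  | g2 p f =>
    obtain ⟨K, _, _, hK, ⟨e⟩⟩ := h
    have hc := charP_of_pow hl hK
    have h3 : 3 ≤ l ^ a := hok
    left
    show (if l ^ a = 4 then 0 else (l ^ a - 1) * l ^ a) ≤ n
    split_ifs with h4
    · exact Nat.zero_le _
    · have h5 := hf.ls_le hna (r := l) ((H203.LS.G2.ls K (by rw [Nat.card_eq_fintype_card, hK]; omega)
        (by rw [Nat.card_eq_fintype_card, hK]; exact h4)).congr e.symm) hlF
      rwa [Nat.card_eq_fintype_card, hK] at h5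
  | f4 p f =>
    obtain ⟨K, _, _, hK, ⟨e⟩⟩ := h
    have hc := charP_of_pow hl hK
    by_cases h2 : l ^ a = 2
    · exact Or.inr (Or.inl ⟨rfl, h2⟩)
    left
    show (if l ^ a = 2 then 249 else (l ^ a - 1) * (l ^ a) ^ 4) ≤ n
    rw [if_neg h2]
    by_cases h3 : (2 : K) = 0
    · have h4 : l = 2 := by
        have h5 : l ∣ 2 := (CharP.cast_eq_zero_iff K l 2).1 (by exact_mod_cast h3)
        exact (Nat.prime_dvd_prime_iff_eq hl Nat.prime_two).1 h5
      subst h4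
      have h7 : 2 < Nat.card K := by
        rw [Nat.card_eq_fintype_card, hK]
        have h8 : 2 ^ 1 ≤ 2 ^ a := Nat.pow_le_pow_right (by norm_num) ha
        omega
      have h5 := hf.ls_le hna (r := 2) ((H203.LS.F4even.ls_even K h3 h7).congr e.symm) hlF
      rwa [Nat.card_eq_fintype_card, hK] at h5
    · have h5 := hf.ls_le hna (r := l) ((H203.LS.F4odd.ls_odd K h3).congr e.symm) hlF
      rwa [Nat.card_eq_fintype_card, hK] at h5
  | e6 p f =>
    obtain ⟨K, _, _, hK, ⟨e⟩⟩ := h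
    have hc := charP_of_pow hl hK
    have h5 := hf.ls_le hna (r := l) ((H203.LS.E6.ls K).congr e.symm) hlF
    rw [Nat.card_eq_fintype_card, hK] at h5
    exact Or.inl h5
  | e7 p f =>
    obtain ⟨K, _, _, hK, ⟨e⟩⟩ := h
    have hc := charP_of_pow hl hK
    have h5 := hf.ls_le hna (r := l) ((H203.LS.E7.ls K).congr e.symm) hlF
    rw [Nat.card_eq_fintype_card, hK] at h5
    exact Or.inl h5
  | e8 p f =>
    obtain ⟨K, _, _, hK, ⟨e⟩⟩ := h
    have hc := charP_of_pow hl hK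
    have h5 := hf.ls_le hna (r := l) ((H203.LS.E8.ls K).congr e.symm) hlF
    rw [Nat.card_eq_fintype_card, hK] at h5
    exact Or.inl h5
  | te6 p f =>
    obtain ⟨K, _, _, hK, ⟨e⟩⟩ := h
    have hc := charP_of_pow hl (a := a * 2) (by rw [hK, pow_mul])
    have hq : IsPrimePow (l ^ a) := hl.isPrimePow.pow (by omega)
    by_cases h2 : l ^ a = 2
    · exact Or.inr (Or.inr ⟨rfl, h2⟩)
    left
    show (if l ^ a = 2 then 249 else (l ^ a - 1) * (l ^ a) ^ 6) ≤ n
    rw [if_neg h2]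
    exact hf.ls_le hna (r := l) ((H203.LS.TwE6.ls hq hK).congr e.symm) hlF
  | td4 p f =>
    obtain ⟨K, _, _, hK, ⟨e⟩⟩ := h
    have hc := charP_of_pow hl (a := a * 3) (by rw [hK, pow_mul])
    have hq : IsPrimePow (l ^ a) := hl.isPrimePow.pow (by omega)
    exact Or.inl (hf.ls_le hna (r := l) ((H203.LS.TwD4.ls hq hK).congr e.symm) hlF)
  | sz p f =>
    obtain ⟨K, _, _, m, hm, hK, hq, ⟨e⟩⟩ := h
    obtain ⟨rfl, -, -⟩ := hok
    have h5 := hf.ls_le hna (r := 2) ((LS.sz hm (hK.trans hq)).congr e.symm) hlF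
    rw [Nat.card_eq_fintype_card, hK] at h5
    exact Or.inl h5
  | ree p f =>
    obtain ⟨K, _, _, m, hm, hK, hq, ⟨e⟩⟩ := h
    obtain ⟨rfl, -, -⟩ := hok
    have h5 := hf.ls_le hna (r := 3) ((LS.ree hm (hK.trans hq)).congr e.symm) hlF
    rw [Nat.card_eq_fintype_card, hK] at h5
    exact Or.inl h5
  | tf4 p f =>
    obtain ⟨K, _, _, m, hm, hK, hq, ⟨e⟩⟩ := h
    obtain ⟨rfl, -, -⟩ := hok
    have h5 := hf.ls_le hna (r := 2) ((H203.LS.TwF4.ls hm (hK.trans hq)).congr e.symm) hlF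
    rw [Nat.card_eq_fintype_card, hK] at h5
    exact Or.inl h5

end Exc

end Cfsg.Agent.H627.Spr
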