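import Cfsg.Agent.H627.Spr.PE

/-!
# Perfect central extensions of sections modulo cyclic normal subgroups (S3938, helper627)
-/

set_option autoImplicit false

namespace Cfsg.Agent.H627.Spr

open scoped commutatorElement
open Cfsg Cfsg.Agent.H290.ElReg

/-- a perfect subgroup of a quotient is the image of a perfect subgroup -/
theorem exists_perfect {G : Type*} [Group G] [Finite G] {H : Type*} [Group H] (f : G →* H)
    (hf : Function.Surjective f) {S : Subgroup H} (hS : ⁅S, S⁆ = S) : ∃ E : Subgroup G, E.map f = S ∧ ⁅E, E⁆ = E := by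
  have wf : WellFounded ((· < ·) : Subgroup G → Subgroup G → Prop) := wellFounded_lt
  obtain ⟨E, hE, hmin⟩ := wf.has_min {E : Subgroup G | E.map f = S}
    ⟨S.comap f, Subgroup.map_comap_eq_self_of_surjective hf S⟩
  refine ⟨E, hE, ?_⟩
  have h1 : ⁅E, E⁆ ≤ E := Subgroup.commutator_le_self E
  have h2 : (⁅E, E⁆).map f = S := by rw [Subgroup.map_commutator, hE, hS]
  by_contra h3
  exact hmin _ h2 (lt_of_le_of_ne h1 h3)

/-- a perfect group acts trivially on a cyclic normal subgroup -/
theorem comm_of_perfect {G : Type*} [Group G] {O : Subgroup G} [O.Normal] (hO : IsCyclic O) {E : Subgroup G}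
    (hE : ⁅E, E⁆ = E) {e z : G} (he : e ∈ E) (hz : z ∈ O) : e * z = z * e := by
  let φ : G →* (ZMod (Nat.card O))ˣ := (IsCyclic.mulAutMulEquiv O).toMonoidHom.comp MulAut.conjNormal
  have h1 : E ≤ φ.ker := by
    rw [← hE, Subgroup.commutator_le]
    intro a _ b _
    rw [MonoidHom.mem_ker, map_commutatorElement, commutatorElement_eq_one_iff_mul_comm]
    exact mul_comm _ _
  have h2 : φ e = 1 := MonoidHom.mem_ker.1 (h1 he)
  have h3 : (MulAut.conjNormal e : MulAut O) = 1 := (IsCyclic.mulAutMulEquiv O).injective (by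
    rw [map_one]
    exact h2)
  have h4 := congrArg (fun f : MulAut O => ((f ⟨z, hz⟩ : O) : G)) h3
  simp only [MulAut.conjNormal_apply, MulAut.one_apply] at h4
  rw [mul_inv_eq_iff_eq_mul] at h4
  exact h4

theorem perfect_of_simple {G : Type*} [Group G] {S : Subgroup G} [IsSimpleGroup S] (hna : ¬ IsMulCommutative S) :
    ⁅S, S⁆ = S := by
  have h : commutator S = ⊤ := by
    rcases IsSimpleGroup.eq_bot_or_eq_top_of_normal (commutator S) inferInstance with h | h
    · exfalso
      apply hna
      refine ⟨⟨fun a b => ?_⟩⟩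
      have h1 : ⁅a, b⁆ ∈ commutator S := Subgroup.commutator_mem_commutator (Subgroup.mem_top a) (Subgroup.mem_top b)
      rw [h, Subgroup.mem_bot, commutatorElement_eq_one_iff_mul_comm] at h1
      exact h1
    · exact h
  have h1 := congrArg (Subgroup.map S.subtype) h
  rwa [commutator_def, Subgroup.map_commutator, ← MonoidHom.range_eq_map, Subgroup.range_subtype] at h1

/-- **the perfect central extension** -/
theorem pe_of_section {n : ℕ} {F : Type} [Field F] {T : Type} [Group T] [Finite T] (hrep : Fth n F T) {K : Subgroup T}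
    {O : Subgroup K} [O.Normal] (hO : IsCyclic O) {S : Subgroup (K ⧸ O)} [IsSimpleGroup S]
    (hna : ¬ IsMulCommutative S) : PE n F (Nat.card O) S := by
  obtain ⟨E, hE, hEE⟩ := exists_perfect (QuotientGroup.mk' O) (QuotientGroup.mk'_surjective O) (perfect_of_simple hna)
  obtain ⟨τ, hτ⟩ := hrep
  let π : E →* S := ((QuotientGroup.mk' O).comp E.subtype).codRestrict S (fun x => by
    rw [← hE]
    exact ⟨x, x.2, rfl⟩)
  have hπ : ∀ x : E, ((π x : S) : K ⧸ O) = QuotientGroup.mk' O x := fun x => rfl
  have hker : ∀ x : E, π x = 1 → (x : K) ∈ O := fun x hx => by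
    rw [← QuotientGroup.eq_one_iff]
    have := congrArg Subtype.val hx
    exact this
  refine ⟨E, inferInstance, inferInstance, π, (τ.comp K.subtype).comp E.subtype, ?_, ?_, ?_, ?_, ?_⟩
  · rintro ⟨s, hs⟩
    rw [← hE] at hs
    obtain ⟨x, hx, rfl⟩ := hs
    exact ⟨⟨x, hx⟩, rfl⟩
  · rw [eq_top_iff]
    intro x _
    have h1 : ((commutator E).map E.subtype) = E := by
      rw [commutator_def, Subgroup.map_commutator, ← MonoidHom.range_eq_map, Subgroup.range_subtype, hEE]
    have h2 : (x : K) ∈ (commutator E).map E.subtype := by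
      rw [h1]
      exact x.2
    obtain ⟨y, hy, hyx⟩ := h2
    rwa [← Subtype.ext hyx]
  · intro x hx
    rw [Subgroup.mem_center_iff]
    intro y
    exact Subtype.ext (comm_of_perfect hO hEE y.2 (hker x (MonoidHom.mem_ker.1 hx)))
  · refine Subgroup.card_dvd_of_injective (H := O)
      (((E.subtype).comp π.ker.subtype).codRestrict O (fun x => hker x.1 (MonoidHom.mem_ker.1 x.2))) ?_
    intro a b hab
    apply Subtype.ext
    apply Subtype.ext
    exact congrArg (fun z : O => (z : K)) hab
  · exact (hτ.comp K.subtype_injective).comp E.subtype_injective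

end Cfsg.Agent.H627.Spr
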